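import Cfsg.Agent.H643.Sd.Def
import Cfsg.Agent.H649.Transport

/-!
# Transport of `Row` along isomorphisms (S4579; helper641)
-/

set_option autoImplicit false

namespace Cfsg.Agent.H641.Sd

open Cfsg Cfsg.Agent.H643.Sd

universe u v

variable {S : Type u} {S' : Type v} [Group S] [Group S'] [Finite S] [Finite S']

/-- **`Row` is invariant under isomorphisms.** -/
theorem row_congr (hR : Row S) (e : S ≃* S') : Row S' := by
  intro M hM Q' A' c' f' hf' hne
  have hle : (Q' : Subgroup S') ≤ e.toMonoidHom.range := by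
    rw [MonoidHom.range_eq_top.2 e.surjective]; exact le_top
  let Q : Sylow 2 S := Q'.comapOfInjective e.toMonoidHom e.injective hle
  have hQ : ∀ x, x ∈ (Q : Subgroup S) ↔ e x ∈ (Q' : Subgroup S') := fun x => Iff.rfl
  let A : Subgroup (MulAut S) := A'.comap (MulAut.congr e).toMonoidHom
  have hA : ∀ a, a ∈ A ↔ MulAut.congr e a ∈ A' := fun a => Iff.rfl
  have happ : ∀ (a : MulAut S) (x : S'), MulAut.congr e a x = e (a (e.symm x)) := fun a x => rfl
  have c : Ctx Q A := by
    refine ⟨c'.isP.comap_of_injective _ (MulAut.congr e).injective, fun x hx => ?_, fun a ha x hx => ?_⟩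
    · have h1 : MulAut.congr e (MulAut.conj x) = MulAut.conj (e x) := by
        ext y
        rw [happ, MulAut.conj_apply, MulAut.conj_apply, map_mul, map_mul, map_inv, e.apply_symm_apply]
      rw [hA, h1]
      exact c'.inner _ hx
    · have h1 := c'.stab _ ((hA a).1 ha) (e x) hx
      rw [happ, e.symm_apply_apply] at h1
      exact h1
  let ι : (Q : Subgroup S) →* (Q' : Subgroup S') :=
    { toFun := fun x => ⟨e x, (hQ x).1 x.2⟩
      map_one' := Subtype.ext (map_one e)
      map_mul' := fun x y => Subtype.ext (map_mul e _ _) }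
  have hι : ∀ (x : S) (hx : x ∈ (Q : Subgroup S)), ι ⟨x, hx⟩ = ⟨e x, (hQ x).1 hx⟩ := fun _ _ => rfl
  have hf : Inv c (f'.comp ι) := by
    intro a ha x hx
    rw [MonoidHom.comp_apply, MonoidHom.comp_apply, hι, hι]
    have h1 := hf' _ ((hA a).1 ha) (e x) ((hQ x).1 hx)
    rw [← h1]
    congr 1
    apply Subtype.ext
    dsimp only
    rw [happ, e.symm_apply_apply]
  obtain ⟨θ, hθ, hodd, hinv, g, hg⟩ := hR M hM Q A c (f'.comp ι) hf (by
    obtain ⟨x, hx⟩ := hne
    refine ⟨⟨e.symm x, (hQ _).2 (by rw [e.apply_symm_apply]; exact x.2)⟩, ?_⟩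
    rw [MonoidHom.comp_apply, hι]
    have h1 : (⟨e (e.symm x), (hQ _).1 ((hQ _).2 (by rw [e.apply_symm_apply]; exact x.2))⟩ : (Q' : Subgroup S')) = x :=
      Subtype.ext (e.apply_symm_apply _)
    rw [h1]
    exact hx)
  refine ⟨H649.irrMap e θ, ?_, ?_, fun a ha g => ?_, e g, ?_⟩
  · rw [← H649.blkMap_principalBlock e, H649.irrMap_mem_blkMap]
    exact hθ
  · rw [H649.charDegree_irrMap]; exact hodd
  · obtain ⟨b, rfl⟩ := (MulAut.congr e).surjective a
    rw [H649.irrMap_apply, H649.irrMap_apply, happ, e.symm_apply_apply]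
    exact hinv b ha _
  · rw [H649.irrMap_apply']; exact hg

end Cfsg.Agent.H641.Sd
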