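import Cfsg.Agent.H641.Sd.Row
import Cfsg.Agent.H641.Sd.Congr
import Cfsg.Agent.BpExc.TorChev
import Cfsg.Agent.H35.ExcIdx
import Cfsg.Agent.TitsThree.KExcTab
import Cfsg.Agent.S1035
import Cfsg.Agent.S4625
import Cfsg.Prelude.Def_Classification2

/-!
# The toral hypotheses for `E6(q)`, `q` odd (S4579, task TL-3; helper641)
-/

set_option autoImplicit false
set_option linter.unusedSectionVars false

namespace Cfsg.Agent.H641.Sd

open CoxeterSystem Cfsg.Agent.ChevalleyStructure.CoxeterGeom Cfsg.Agent.Tits.Roots Cfsg.Agent.Tits.Core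
  Cfsg.Agent.Nodes.Reps Cfsg.Agent.Nodes.BNOf Cfsg.Agent.Nodes.BNOf.RGD Cfsg.Agent.Nodes.Bruhat
  Cfsg.Agent.Nodes.OppDec Cfsg.Agent.KFacts.RgdAut Cfsg.Agent.KFacts.RgdDiag

section

variable {I W Y : Type*} [Fintype I] [DecidableEq I] [Group W] [Group Y] {M : CoxeterMatrix I}
  {cs : CoxeterSystem M W} {A : I → I → ℤ} {h : IsCartan M A} {p : ℕ} {T : Subgroup Y} {n : I → Y}
  {X : (I → ℤ) → Subgroup Y}

/-- A torus element centralising the simple root groups is trivial. -/
theorem eq_one_of_simple (R : RGD cs h p T n X) [Finite W] [Finite Y] (hG1 : Sup X {x | IsRoot cs h x} = ⊤)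
    (hZ : Subgroup.center Y = ⊥) {t : Y} (ht : t ∈ T) (hc : ∀ i, ∀ y ∈ X (sr i), t * y = y * t) : t = 1 := by
  have h1 : MulAut.conj t = 1 := by
    refine Cfsg.Agent.KFacts.RgdRigid.eq_one_of_fix R hG1 (fix_of_le fun x hx => ?_) (fix_of_le fun x hx => ?_)
      fun i x hx => ?_
    · exact (Subgroup.mem_normalizer_iff.1 (R.T_le_normalizer_U ht) x).1 hx
    · exact (Subgroup.mem_normalizer_iff.1 (R.T_le_normalizer (S := Neg cs h) (fun x hx => hx.1) ht) x).1 hx
    · rw [MulAut.conj_apply, hc i x hx, mul_inv_cancel_right]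
  have h2 : t ∈ Subgroup.center Y := by
    rw [Subgroup.mem_center_iff]
    intro g
    have h3 := DFunLike.congr_fun h1 g
    rw [MulAut.conj_apply, MulAut.one_apply, mul_inv_eq_iff_eq_mul] at h3
    exact h3.symm
  rwa [hZ, Subgroup.mem_bot] at h2

/-- The Weyl group is faithful on the roots. -/
theorem eq_one_of_fix_roots {w : W} (hw : ∀ x, IsRoot cs h x → rep cs h w x = x) : w = 1 := by
  apply eq_one_of_nonneg cs h
  intro i
  have h1 := hw (sr i) (isRoot_sr cs h i)
  have h2 : (0 : I → ℤ) ≤ sr i := sr_nonneg i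
  rw [← h1] at h2
  exact h2

end

/-- `Row` in characteristic two. -/
theorem row_of_char_two {S : Type*} [Group S] [Finite S] [IsSimpleGroup S] (h : Cfsg.IsLieTypeChar 2 S) :
    H643.Sd.Row S := by
  apply H643.Sd.row_of_elem
  intro P f x
  rw [← map_pow]
  exact Abelianization.commutator_subset_ker f (S4625.result h P x)

namespace E6

open Cfsg.Lie Cfsg.Lie.ChevalleyDatum Cfsg.Agent.Nodes.RGDChev Cfsg.Agent.KFacts.RgdField
  Cfsg.Agent.KFacts.RgdChevCoord

universe u

variable {K : Type u} [Field K]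

theorem isType : IsType chevE6 6 CoxeterMatrix.E₆ := by simp [IsType, typeList]

/-- the parities of the Cartan integers separate the roots up to sign -/
theorem par_tab : ∀ r < 72, ∀ s < 72, (∀ j < 6, chevE6.cartan j r % 2 = chevE6.cartan j s % 2) →
    s = r ∨ s = chevE6.neg r := by decide +kernel

/-- every simple root has an odd Cartan integer -/
theorem odd_tab : ∀ i < 6, ∃ j < 6, chevE6.cartan j (chevE6.simple i) % 2 = 1 := by decide +kernel

/-- the Coxeter system -/
abbrev cs : CoxeterSystem CoxeterMatrix.E₆ CoxeterMatrix.E₆.Group := CoxeterMatrix.E₆.toCoxeterSystem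

abbrev T (K : Type u) [Field K] : Subgroup ↥(chevE6.group K) := TT chevE6 K

abbrev X (K : Type u) [Field K] (x : Fin 6 → ℤ) : Subgroup ↥(chevE6.group K) := XX chevE6 6 K x

abbrev U (K : Type u) [Field K] : Subgroup ↥(chevE6.group K) := Sup (X K) (Pos cs isType.isCartan)

instance : Finite CoxeterMatrix.E₆.Group := finite_W isType cs

variable [Finite K]

section

variable (K) (p : ℕ) [Fact p.Prime] [CharP K p]

theorem rgd6 : RGD cs isType.isCartan p (T K) (nc isType K) (X K) := rgd isType cs p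

omit [Finite K] in
theorem center_eq : Subgroup.center ↥(chevE6.group K) = ⊥ := by
  obtain ⟨h1, h2⟩ := Cfsg.Agent.S1054.result (F := K) chevE6 (by simp)
  rcases (inferInstance : (Subgroup.center ↥(chevE6.group K)).Normal).eq_bot_or_eq_top with h3 | h3
  · exact h3
  · exfalso
    apply h2
    constructor
    constructor
    intro a b
    have h4 : a ∈ Subgroup.center ↥(chevE6.group K) := by rw [h3]; exact Subgroup.mem_top _
    exact (Subgroup.mem_center_iff.1 h4 b).symm

theorem G1_top : Sup (X K) {x | IsRoot cs isType.isCartan x} = ⊤ := Nodes.RGDChev.G1_eq_top isType cs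

theorem T_comm : ∀ a ∈ T K, ∀ b ∈ T K, a * b = b * a := BpExc.TorChev.TT_comm isType

include p

theorem GG_top : GG cs isType.isCartan (T K) (X K) = ⊤ := Sd.GG_top (rgd6 K p) (G1_top K)

theorem coord {r : Fin 6 → ℤ} (hr : IsRoot cs isType.isCartan r) :
    Coord (T K) (X K r) (xc isType r) (ch isType r) := (coords isType cs p).coord r hr

/-- commutation with a root group -/
theorem comm_iff {r : Fin 6 → ℤ} (hr : IsRoot cs isType.isCartan r) {t : ↥(chevE6.group K)} (ht : t ∈ T K) {a : K}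
    (ha : a ≠ 0) : t * xc isType r a = xc isType r a * t ↔ ch isType r t = 1 := by
  have C := coord K p hr
  rw [← mul_inv_eq_iff_eq_mul, C.act t ht a]
  constructor
  · intro h1
    exact (mul_eq_right₀ ha).1 (C.inj h1)
  · intro h1
    rw [h1, one_mul]

theorem comm_all {r : Fin 6 → ℤ} (hr : IsRoot cs isType.isCartan r) {t : ↥(chevE6.group K)} (ht : t ∈ T K) :
    (∀ a ∈ X K r, t * a = a * t) ↔ ch isType r t = 1 := by
  have C := coord K p hr
  constructor
  · intro h1
    exact (comm_iff K p hr ht one_ne_zero).1 (h1 _ ((C.mem _).2 ⟨1, rfl⟩))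
  · rintro h1 a ha
    obtain ⟨a, rfl⟩ := (C.mem a).1 ha
    by_cases ha0 : a = 0
    · rw [ha0, C.zero, mul_one, one_mul]
    · exact (comm_iff K p hr ht ha0).2 h1

theorem semi : Semi (T K) (X K) := by
  intro i t ht x hx hx1 hc
  have C := coord K p (isRoot_sr cs isType.isCartan i)
  obtain ⟨a, rfl⟩ := (C.mem x).1 hx
  have ha : a ≠ 0 := fun h0 => hx1 (by rw [h0, C.zero])
  exact (comm_all K p (isRoot_sr cs isType.isCartan i) ht).2 ((comm_iff K p (isRoot_sr cs isType.isCartan i) ht ha).1 hc)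

theorem ab : Ab (X K) := by
  intro i a ha b hb
  have C := coord K p (isRoot_sr cs isType.isCartan i)
  obtain ⟨a, rfl⟩ := (C.mem a).1 ha
  obtain ⟨b, rfl⟩ := (C.mem b).1 hb
  rw [← C.add, ← C.add, add_comm]

/-- the involutions of the torus -/
theorem hc_two (j : Fin 6) : hc isType j (-1 : K) ∈ Two (T K) := by
  have h0 : (-1 : K) ≠ 0 := neg_ne_zero.2 one_ne_zero
  have hT := hc_mem (K := K) isType j h0
  refine ⟨hT, 1, ?_⟩
  rw [pow_one, pow_two]
  refine eq_one_of_simple (rgd6 K p) (G1_top K) (center_eq K) (mul_mem hT hT) fun i y hy => ?_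
  have C := coord K p (isRoot_sr cs isType.isCartan i)
  obtain ⟨a, rfl⟩ := (C.mem y).1 hy
  have h1 := C.act _ hT a
  have h2 := C.act _ hT (ch isType (sr i) (hc isType j (-1 : K)) * a)
  have h3 : ch isType (sr i) (hc isType j (-1 : K)) * ch isType (sr i) (hc isType j (-1 : K)) = 1 := by
    have h4 := ch_hc (K := K) isType j h0 (r := chevE6.simple i) (by
      exact (by decide +kernel : ∀ i : Fin 6, chevE6.simple i < chevE6.nroots) i)
    rw [vec_simple isType] at h4
    rw [h4, ← mul_zpow, neg_mul_neg, one_mul, one_zpow]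
  rw [← mul_assoc, h3, one_mul, ← h1] at h2
  have h5 : hc isType j (-1 : K) * hc isType j (-1 : K) * xc isType (sr i) a =
      hc isType j (-1 : K) * (hc isType j (-1 : K) * xc isType (sr i) a * (hc isType j (-1 : K))⁻¹) *
        (hc isType j (-1 : K))⁻¹ * (hc isType j (-1 : K) * hc isType j (-1 : K)) := by group
  rw [h5, h2]

omit p in
/-- parity of the Cartan integer -/
theorem zpow_par (h2 : (-1 : K) ≠ 1) (m : ℤ) : (-1 : K) ^ m = 1 ↔ m % 2 = 0 := by
  rcases Int.even_or_odd m with hm | hm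
  · rw [hm.neg_one_zpow]
    exact ⟨fun _ => Int.even_iff.1 hm, fun _ => rfl⟩
  · rw [hm.neg_one_zpow]
    refine ⟨fun h => absurd h h2, fun h => ?_⟩
    rw [Int.odd_iff.1 hm] at h
    exact absurd h one_ne_zero

omit p in
theorem ch_par (h2 : (-1 : K) ≠ 1) (j : Fin 6) {r : ℕ} (hr : r < 72) :
    ch isType (vec chevE6 6 r) (hc isType j (-1 : K)) = 1 ↔ chevE6.cartan j r % 2 = 0 := by
  rw [ch_hc (K := K) isType j (neg_ne_zero.2 one_ne_zero) (r := r) hr, zpow_par K h2]

variable (hp2 : p ≠ 2)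

include hp2

theorem neg_one_ne : (-1 : K) ≠ 1 := by
  have : ringChar K = p := ringChar.eq K p ▸ rfl
  intro h1
  have h2 : ((2 : ℕ) : K) = 0 := by
    have h3 : (1 : K) + 1 = 0 := by
      nth_rewrite 1 [← h1]
      exact neg_add_cancel 1
    push_cast
    rw [← one_add_one_eq_two]
    exact h3
  have h3 := (CharP.cast_eq_zero_iff K p 2).1 h2
  exact hp2 ((Nat.prime_dvd_prime_iff_eq (Fact.out : p.Prime) Nat.prime_two).1 h3)

theorem fix : FixSimple (T K) (X K) := by
  intro i x hx hc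
  have h2 := neg_one_ne K p hp2
  have C := coord K p (isRoot_sr cs isType.isCartan i)
  obtain ⟨a, rfl⟩ := (C.mem x).1 hx
  by_contra hne
  have ha : a ≠ 0 := fun h0 => hne (by rw [h0, C.zero])
  obtain ⟨j, hj, hjo⟩ := odd_tab i i.2
  have h3 := hc _ (hc_two K p ⟨j, hj⟩)
  rw [comm_iff K p (isRoot_sr cs isType.isCartan i) (hc_two K p ⟨j, hj⟩).1 ha] at h3
  have hs : chevE6.simple i < 72 := (by decide +kernel : ∀ i : Fin 6, chevE6.simple i < 72) i
  rw [← vec_simple isType i, ch_par K h2 ⟨j, hj⟩ hs] at h3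
  change chevE6.cartan j (chevE6.simple i) % 2 = 0 at h3
  omega

theorem sep : Sep cs isType.isCartan (T K) (X K) {x | IsRoot cs isType.isCartan x} where
  root := fun x hx => hx
  act := fun x hx w => IsRoot.act hx w
  sep := by
    intro x hx y hy he
    have h2 := neg_one_ne K p hp2
    obtain ⟨r, hr, rfl⟩ := (isRoot_iff isType cs x).1 hx
    obtain ⟨s, hs, rfl⟩ := (isRoot_iff isType cs y).1 hy
    have h3 : ∀ j < 6, chevE6.cartan j r % 2 = chevE6.cartan j s % 2 := by
      intro j hj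
      have h4 := he _ (hc_two K p ⟨j, hj⟩)
      rw [comm_all K p hx (hc_two K p ⟨j, hj⟩).1, comm_all K p hy (hc_two K p ⟨j, hj⟩).1,
        ch_par K h2 ⟨j, hj⟩ hr, ch_par K h2 ⟨j, hj⟩ hs] at h4
      change chevE6.cartan j r % 2 = 0 ↔ chevE6.cartan j s % 2 = 0 at h4
      omega
    rcases par_tab r hr s hs h3 with h4 | h4
    · left; rw [h4]
    · right; rw [h4]; exact vec_neg isType hr
  span := fun w hw => eq_one_of_fix_roots hw

theorem odd_orb : Odd (Nat.card (H55.Sd.torb (U K) (T K) '' Psi cs isType.isCartan (X K))) := by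
  have := Fintype.ofFinite K
  have h1 := S1035.result (F := K) rfl (chevE6, Nat.gcd 3 (Fintype.card K - 1)) (by simp)
  have h2 : Odd (Nat.gcd 3 (Fintype.card K - 1)) := by
    have h3 : Nat.gcd 3 (Fintype.card K - 1) ∣ 3 := Nat.gcd_dvd_left _ _
    rcases (Nat.dvd_prime Nat.prime_three).1 h3 with h4 | h4
    · rw [h4]; exact odd_one
    · rw [h4]; decide
  refine odd_orbits (rgd6 K p) (G1_top K) (center_eq K) (ab K p) (semi K p) h2 ?_
  have h3 : Nat.card (T K) = Nat.card (chevE6.diagonalSubgroup K) :=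
    Nat.card_congr (Subgroup.subgroupOfEquivOfLe (ChevalleyStructure.Elts.diagonal_le_group isType.inList K)).toEquiv
  rw [h3, h1]
  rw [Finset.prod_congr rfl fun i _ => by
    rw [H35.ExcIdx.card_XX isType K cs (isRoot_sr cs isType.isCartan i), Nat.card_eq_fintype_card]]
  rw [Finset.prod_const, Finset.card_univ, Fintype.card_fin]
  rfl

/-- **The conditions of the toral lemma hold for `E6(q)`, `q` odd.** -/
theorem torCond : TorCond cs isType.isCartan p (T K) (X K) {x | IsRoot cs isType.isCartan x} where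
  prime := Fact.out
  odd := hp2
  gen := G1_top K
  cen := center_eq K
  comm := T_comm K
  fix := fix K p hp2
  sep := sep K p hp2
  orb := odd_orb K p hp2

end

/-- **`Row` for `E6(q)`**, from the frames for odd `q`. -/
theorem row_e6_of
    (hreal : ∀ (K : Type) [Field K] [Fintype K] (p : ℕ) [Fact p.Prime] [CharP K p], p ≠ 2 →
      ∃ 𝓜, H55.Sd.Frames (T K) 𝓜 ∧ H55.Sd.RealOnT (U K) (T K) 𝓜)
    {S : Type u} [Group S] [Finite S] [IsSimpleGroup S] (h : Cfsg.Lie.IsoChevE6 S) : H643.Sd.Row S := by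
  obtain ⟨K, iF, iT, ⟨e⟩⟩ := h
  obtain ⟨p, hpK⟩ := CharP.exists K
  have hp : Fact p.Prime := ⟨(CharP.char_is_prime_or_zero K p).resolve_right fun h0 => by
    rw [h0] at hpK
    have := CharP.charP_to_charZero K
    exact not_injective_infinite_finite _ (Nat.cast_injective (R := K))⟩
  by_cases hp2 : p = 2
  · subst hp2
    have h1 : Cfsg.IsExceptionalChevChar 2 S := ⟨K, iF, iT, hpK, Or.inr (Or.inr (Or.inl ⟨e⟩))⟩
    exact row_of_char_two (Or.inr (Or.inr (Or.inr (Or.inr (Or.inr (Or.inr (Or.inl h1)))))))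
  · obtain ⟨𝓜, h1, h2⟩ := hreal K p hp2
    exact row_congr (row_of_rgd (rgd6 K p) (torCond K p hp2) h1 h2) e.symm

end E6

end Cfsg.Agent.H641.Sd
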