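import Cfsg.Agent.H641.Sd.Toral
import Cfsg.Agent.H55.Sd.Iface
import Cfsg.Agent.H150.Toral.Def
import Mathlib.Analysis.Complex.Polynomial.Basic
import Mathlib.RingTheory.RootsOfUnity.AlgebraicallyClosed

/-!
# The characters `Ψ` of `U` (S4579, task TL-3; helper641)

* `psi_stable` : `Ψ` is stable under the automorphisms normalising `U` and `T`;
* `psi_free` : `T` acts freely on `Ψ`;
* `card_psi` : `|Ψ| = ∏ (|X_i| - 1)`;
* `card_orbits` : `#orbits * |T| = |Ψ|`.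
-/

set_option autoImplicit false
set_option linter.unusedSectionVars false

namespace Cfsg.Agent.H641.Sd

open CoxeterSystem Cfsg.Agent.ChevalleyStructure.CoxeterGeom Cfsg.Agent.Tits.Roots Cfsg.Agent.Tits.Core
  Cfsg.Agent.Tits.Exchange Cfsg.Agent.Tits.RootComb Cfsg.Agent.Nodes.Reps Cfsg.Agent.Nodes.Comb
  Cfsg.Agent.Nodes.BNOf Cfsg.Agent.Nodes.BNOf.RGD Cfsg.Agent.Nodes.StabComb
  Cfsg.Agent.Nodes.Bruhat Cfsg.Agent.Nodes.OppDec Cfsg.Agent.Nodes.LeviDec Cfsg.Agent.Nodes.Unique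
  Cfsg.Agent.KFacts.RgdInd Cfsg.Agent.KFacts.RgdAut Cfsg.Agent.KFacts.RgdDiag Cfsg.Agent.Nodes.NormalForm
  Cfsg.Agent.KFacts.RgdFixU

variable {I W Y : Type*} [Fintype I] [DecidableEq I] [Group W] [Group Y] {M : CoxeterMatrix I}
  {cs : CoxeterSystem M W} {A : I → I → ℤ} {h : IsCartan M A} {p : ℕ} {T : Subgroup Y} {n : I → Y}
  {X : (I → ℤ) → Subgroup Y}

/-- In a finite group a stable subgroup is fixed. -/
theorem fix_of_le [Finite Y] {α : MulAut Y} {H : Subgroup Y} (hα : ∀ x ∈ H, α x ∈ H) : Fix α H := by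
  have h1 : Function.Injective (fun x : H => (⟨α x, hα x x.2⟩ : H)) := by
    intro x y hxy
    exact Subtype.ext (α.injective (congrArg Subtype.val hxy))
  have h2 := Finite.injective_iff_surjective.1 h1
  intro x
  refine ⟨fun hx => ?_, hα x⟩
  obtain ⟨y, hy⟩ := h2 ⟨α x, hx⟩
  have h3 : (y : Y) = x := α.injective (congrArg Subtype.val hy)
  rw [← h3]; exact y.2

section

variable (R : RGD cs h p T n X)

include R

theorem sr_mem_Pos (i : I) : sr i ∈ Pos cs h := ⟨isRoot_sr cs h i, sr_nonneg i⟩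

/-- **Automorphisms fixing `U` and `T` permute the simple root groups.** -/
theorem exists_diag_of_fix [Finite W] [Finite Y] (hG : GG cs h T X = ⊤) (hF : FixSimple T X) {α : MulAut Y}
    (hU : ∀ u ∈ Sup X (Pos cs h), α u ∈ Sup X (Pos cs h)) (hT : ∀ t ∈ T, α t ∈ T) :
    ∃ σ : Equiv.Perm I, Diag T X α σ := by
  have fU : Fix α (Sup X (Pos cs h)) := fix_of_le hU
  have fT : Fix α T := fix_of_le hT
  obtain ⟨u, hu, -, -, hUN, -, hT'⟩ := exists_frame R hG fU
  have hu1 : u = 1 := by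
    refine Sd.eq_one_of_norm R hF hu fun t ht => ?_
    have h1 := (hT' (α⁻¹ t)).2 ((fT.inv t).2 ht)
    rwa [MulAut.mul_apply, MulAut.apply_inv_self, MulAut.conj_apply] at h1
  rw [hu1, map_one, one_mul] at hUN
  exact exists_diag R hG fU hUN

/-- **`Ψ` is stable.** -/
theorem psi_stable [Finite W] [Finite Y] (hG : GG cs h T X = ⊤) (hF : FixSimple T X) :
    H55.Sd.PsiStable (Sup X (Pos cs h)) T (Psi cs h X) := by
  intro α hU hT ψ hψ ψ' he
  have fU : Fix α (Sup X (Pos cs h)) := fix_of_le hU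
  obtain ⟨σ, D⟩ := exists_diag_of_fix R hG hF hU hT
  have hσ := fun i j => D.matrix R i j
  obtain ⟨ρ, hρ1, hρ2, hρ3⟩ := D.exists_rootMap R hσ
  have hsr : ∀ i, ρ (sr i) = sr (σ i) := by
    intro i
    have := hρ2 1 i
    rwa [map_one, map_one, Module.End.one_apply, map_one, Module.End.one_apply] at this
  have hpos : ∀ x ∈ Pos cs h, ρ x ∈ Pos cs h := by
    intro x hx
    refine ⟨(hρ1 x hx.1).1, ?_⟩
    by_contra hneg
    have h1 : ρ x ≤ 0 := neg_nonneg.1 ((hρ1 x hx.1).1.not_nonneg_iff_neg.1 hneg)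
    apply X_ne_bot R hx.1
    rw [eq_bot_iff]
    intro y hy
    have h2 := ((hρ1 x hx.1).2 y).2 hy
    have h3 := eq_one_of_mem_U_of_mem_BN R ((fU y).2 (le_Sup hx hy)) (X_le_BN (hρ1 x hx.1).1 h1 h2)
    rw [Subgroup.mem_bot]
    exact (map_eq_one_iff α α.injective).1 h3
  have hns : ∀ x ∈ Pos cs h, (∀ i, x ≠ sr i) → ∀ i, ρ x ≠ sr i := by
    intro x hx hxn i hi
    apply hxn (σ.symm i)
    apply X_injective R hx.1 (isRoot_sr cs h _)
    ext y
    rw [← (hρ1 x hx.1).2 y, ← (hρ1 _ (isRoot_sr cs h (σ.symm i))).2 y, hsr, Equiv.apply_symm_apply, hi]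
  constructor
  · intro x hx hxn u hu
    rw [he u (hU u u.2)]
    exact hψ.1 (ρ x) (hpos x hx) (hns x hx hxn) _ (((hρ1 x hx.1).2 u).2 hu)
  · intro i
    obtain ⟨v, hv, hv1⟩ := hψ.2 (σ i)
    have h1 : α⁻¹ (v : Y) ∈ X (sr i) := by
      rw [← (hρ1 _ (isRoot_sr cs h i)).2, hsr, MulAut.apply_inv_self]
      exact hv
    have h2 : α⁻¹ (v : Y) ∈ Sup X (Pos cs h) := (fU.inv v).2 v.2
    refine ⟨⟨_, h2⟩, h1, ?_⟩
    rw [he ⟨_, h2⟩ (hU _ h2)]
    have h3 : (⟨α ((⟨α⁻¹ (v : Y), h2⟩ : ↥(Sup X (Pos cs h))) : Y), hU _ h2⟩ : ↥(Sup X (Pos cs h))) = v :=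
      Subtype.ext (MulAut.apply_inv_self _ _ _)
    rw [h3]
    exact hv1

/-- The conjugate of a character of `U` by an element of the torus. -/
def actT [Finite W] (t : T) (ψ : ↥(Sup X (Pos cs h)) →* ℂˣ) : ↥(Sup X (Pos cs h)) →* ℂˣ where
  toFun u := ψ ⟨(t : Y) * u * (t : Y)⁻¹, (Subgroup.mem_normalizer_iff.1 (R.T_le_normalizer_U t.2) u).1 u.2⟩
  map_one' := by
    have : (⟨(t : Y) * ((1 : ↥(Sup X (Pos cs h))) : Y) * (t : Y)⁻¹,
        (Subgroup.mem_normalizer_iff.1 (R.T_le_normalizer_U t.2) _).1 (1 : ↥(Sup X (Pos cs h))).2⟩ :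
        ↥(Sup X (Pos cs h))) = 1 := by
      apply Subtype.ext
      simp
    rw [this, map_one]
  map_mul' a b := by
    rw [← map_mul]
    congr 1
    apply Subtype.ext
    push_cast
    group

theorem actT_apply [Finite W] (t : T) (ψ : ↥(Sup X (Pos cs h)) →* ℂˣ) (u : ↥(Sup X (Pos cs h)))
    (hu : (t : Y) * u * (t : Y)⁻¹ ∈ Sup X (Pos cs h)) : actT R t ψ u = ψ ⟨(t : Y) * u * (t : Y)⁻¹, hu⟩ := rfl

theorem actT_one [Finite W] (ψ : ↥(Sup X (Pos cs h)) →* ℂˣ) : actT R 1 ψ = ψ := by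
  ext u
  rw [actT_apply R 1 ψ u (by simp)]
  congr 2
  apply Subtype.ext
  simp

theorem actT_mul [Finite W] (s t : T) (ψ : ↥(Sup X (Pos cs h)) →* ℂˣ) : actT R s (actT R t ψ) = actT R (t * s) ψ := by
  ext u
  have h1 : ((s : Y) * u * (s : Y)⁻¹) ∈ Sup X (Pos cs h) :=
    (Subgroup.mem_normalizer_iff.1 (R.T_le_normalizer_U s.2) u).1 u.2
  have h2 : ((t : Y) * ((s : Y) * u * (s : Y)⁻¹) * (t : Y)⁻¹) ∈ Sup X (Pos cs h) :=
    (Subgroup.mem_normalizer_iff.1 (R.T_le_normalizer_U t.2) _).1 h1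
  have h3 : (((t * s : T) : Y) * u * ((t * s : T) : Y)⁻¹) ∈ Sup X (Pos cs h) :=
    (Subgroup.mem_normalizer_iff.1 (R.T_le_normalizer_U (t * s).2) u).1 u.2
  rw [actT_apply R s _ u h1, actT_apply R t ψ ⟨_, h1⟩ h2, actT_apply R (t * s) ψ u h3]
  congr 2
  apply Subtype.ext
  push_cast
  group

/-- `T` acts on `Ψ`. -/
theorem actT_mem [Finite W] (t : T) {ψ : ↥(Sup X (Pos cs h)) →* ℂˣ} (hψ : ψ ∈ Psi cs h X) :
    actT R t ψ ∈ Psi cs h X := by
  constructor
  · intro x hx hxn u hu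
    refine hψ.1 x hx hxn _ ?_
    have h1 : (t : Y) * u * (t : Y)⁻¹ ∈ X x := by
      rw [← R.tor x hx.1 t t.2]; exact conj_mem_cj.2 hu
    exact h1
  · intro i
    obtain ⟨u, hu, hu1⟩ := hψ.2 i
    have h1 : (t : Y)⁻¹ * u * (t : Y) ∈ X (sr i) := by
      have h2 : (u : Y) ∈ cj (t : Y) (X (sr i)) := by rw [R.tor _ (isRoot_sr cs h i) t t.2]; exact hu
      exact mem_cj.1 h2
    have h2 : (t : Y)⁻¹ * u * (t : Y) ∈ Sup X (Pos cs h) := le_Sup (sr_mem_Pos R i) h1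
    have h3 : (t : Y) * ((t : Y)⁻¹ * u * (t : Y)) * (t : Y)⁻¹ = u := by group
    refine ⟨⟨_, h2⟩, h1, ?_⟩
    rw [actT_apply R t ψ ⟨_, h2⟩ (by rw [h3]; exact u.2)]
    have h4 : (⟨(t : Y) * ((⟨_, h2⟩ : ↥(Sup X (Pos cs h))) : Y) * (t : Y)⁻¹, by rw [h3]; exact u.2⟩ :
        ↥(Sup X (Pos cs h))) = u := Subtype.ext h3
    rw [h4]
    exact hu1

omit R in
/-- A torus element centralising one nontrivial element of a simple root group centralises this root group. -/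
def Semi (T : Subgroup Y) (X : (I → ℤ) → Subgroup Y) : Prop :=
  ∀ i, ∀ t ∈ T, ∀ x ∈ X (sr i), x ≠ 1 → t * x = x * t → ∀ y ∈ X (sr i), t * y = y * t

omit R in
/-- The simple root groups are abelian. -/
def Ab (X : (I → ℤ) → Subgroup Y) : Prop := ∀ i, ∀ a ∈ X (sr i), ∀ b ∈ X (sr i), a * b = b * a

/-- **`T` acts freely on `Ψ`.** -/
theorem psi_free [Finite W] [Finite Y] (hG1 : Sup X {x | IsRoot cs h x} = ⊤) (hZ : Subgroup.center Y = ⊥)
    (hS : Semi T X) {ψ : ↥(Sup X (Pos cs h)) →* ℂˣ} (hψ : ψ ∈ Psi cs h X) {t : T}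
    (he : actT R t ψ = ψ) : t = 1 := by
  have hc : ∀ i, ∀ y ∈ X (sr i), (t : Y) * y = y * t := by
    intro i
    by_contra hcon
    push Not at hcon
    obtain ⟨y, hy, hne⟩ := hcon
    have h1 : ∀ x ∈ X (sr i), (t : Y) * x = x * t → x = 1 := by
      intro x hx hxt
      by_contra hx1
      exact hne (hS i t t.2 x hx hx1 hxt y hy)
    have hcj : ∀ x ∈ X (sr i), (t : Y) * x * (t : Y)⁻¹ ∈ X (sr i) := by
      intro x hx
      rw [← R.tor _ (isRoot_sr cs h i) t t.2]; exact conj_mem_cj.2 hx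
    let f : X (sr i) → X (sr i) := fun x => ⟨(t : Y) * x * (t : Y)⁻¹ * (x : Y)⁻¹, mul_mem (hcj x x.2) (inv_mem x.2)⟩
    have hf : Function.Injective f := by
      intro x y hxy
      have h2 : (t : Y) * x * (t : Y)⁻¹ * (x : Y)⁻¹ = (t : Y) * y * (t : Y)⁻¹ * (y : Y)⁻¹ :=
        congrArg Subtype.val hxy
      have h3 : (y : Y)⁻¹ * x ∈ X (sr i) := mul_mem (inv_mem y.2) x.2
      have h4 : (y : Y)⁻¹ * x = 1 := by
        apply h1 _ h3
        have h5 : (t : Y) * ((y : Y)⁻¹ * x) * (t : Y)⁻¹ = (y : Y)⁻¹ * x := by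
          calc (t : Y) * ((y : Y)⁻¹ * x) * (t : Y)⁻¹
              = ((t : Y) * y * (t : Y)⁻¹)⁻¹ * ((t : Y) * x * (t : Y)⁻¹ * (x : Y)⁻¹) * x := by group
            _ = ((t : Y) * y * (t : Y)⁻¹)⁻¹ * ((t : Y) * y * (t : Y)⁻¹ * (y : Y)⁻¹) * x := by rw [h2]
            _ = (y : Y)⁻¹ * x := by group
        exact mul_inv_eq_iff_eq_mul.1 h5
      exact Subtype.ext (inv_mul_eq_one.1 h4).symm
    have hf' := Finite.injective_iff_surjective.1 hf
    obtain ⟨v, hv, hv1⟩ := hψ.2 i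
    apply hv1
    obtain ⟨x, hx⟩ := hf' ⟨v, hv⟩
    have hx' : (t : Y) * x * (t : Y)⁻¹ * (x : Y)⁻¹ = v := congrArg Subtype.val hx
    have hxU : (x : Y) ∈ Sup X (Pos cs h) := le_Sup (sr_mem_Pos R i) x.2
    have htU : (t : Y) * x * (t : Y)⁻¹ ∈ Sup X (Pos cs h) := le_Sup (sr_mem_Pos R i) (hcj x x.2)
    have h5 : v = ⟨_, htU⟩ * (⟨_, hxU⟩ : ↥(Sup X (Pos cs h)))⁻¹ := Subtype.ext hx'.symm
    have h6 : ψ ⟨_, htU⟩ = ψ ⟨_, hxU⟩ := by
      have := DFunLike.congr_fun he (⟨_, hxU⟩ : ↥(Sup X (Pos cs h)))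
      rwa [actT_apply R t ψ ⟨_, hxU⟩ htU] at this
    rw [h5, map_mul, map_inv, h6, mul_inv_cancel]
  have h1 : MulAut.conj (t : Y) = 1 := by
    refine Cfsg.Agent.KFacts.RgdRigid.eq_one_of_fix R hG1 (fix_of_le fun x hx => ?_) (fix_of_le fun x hx => ?_) fun i x hx => ?_
    · exact (Subgroup.mem_normalizer_iff.1 (R.T_le_normalizer_U t.2) x).1 hx
    · exact (Subgroup.mem_normalizer_iff.1 (R.T_le_normalizer (S := Neg cs h) (fun x hx => hx.1) t.2) x).1 hx
    · rw [MulAut.conj_apply, hc i x hx, mul_inv_cancel_right]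
  have h2 : (t : Y) ∈ Subgroup.center Y := by
    rw [Subgroup.mem_center_iff]
    intro g
    have h3 := DFunLike.congr_fun h1 g
    rw [MulAut.conj_apply, MulAut.one_apply, mul_inv_eq_iff_eq_mul] at h3
    exact h3.symm
  rw [hZ, Subgroup.mem_bot] at h2
  exact Subtype.ext h2

/-! ### the retractions `U → X_i` -/

theorem retr_uniq [Finite W] {i : I} {a a' v v' : Y} (ha : a ∈ X (sr i)) (ha' : a' ∈ X (sr i))
    (hv : v ∈ Sup X (PosNe cs h i)) (hv' : v' ∈ Sup X (PosNe cs h i)) (e : a * v = a' * v') : a = a' := by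
  have h1 : a'⁻¹ * a = v' * v⁻¹ := by
    rw [inv_mul_eq_iff_eq_mul, ← mul_assoc, ← e]; group
  have h2 := eq_one_of_mem_PosNe R (mul_mem (inv_mem ha') ha) (by rw [h1]; exact mul_mem hv' (inv_mem hv))
  exact (inv_mul_eq_one.1 h2).symm

/-- The retraction `U → X_i` with kernel `V_i`. -/
noncomputable def retr [Finite W] (i : I) : ↥(Sup X (Pos cs h)) →* ↥(X (sr i)) :=
  MonoidHom.mk' (fun u => ⟨(exists_mul_V R i u.2).choose, (exists_mul_V R i u.2).choose_spec.1⟩) (by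
    intro u u'
    obtain ⟨v, hv, hu⟩ := (exists_mul_V R i u.2).choose_spec.2
    obtain ⟨v', hv', hu'⟩ := (exists_mul_V R i u'.2).choose_spec.2
    obtain ⟨v'', hv'', hu''⟩ := (exists_mul_V R i (u * u').2).choose_spec.2
    apply Subtype.ext
    push_cast
    set a := (exists_mul_V R i u.2).choose with ha
    set a' := (exists_mul_V R i u'.2).choose with ha'
    have ma : a ∈ X (sr i) := (exists_mul_V R i u.2).choose_spec.1
    have ma' : a' ∈ X (sr i) := (exists_mul_V R i u'.2).choose_spec.1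
    have h1 : a'⁻¹ * v * a' ∈ Sup X (PosNe cs h i) := by
      have h2 := (Subgroup.mem_normalizer_iff.1 (U_le_normalizer_V R i
        (le_Sup (sr_mem_Pos R i) (inv_mem ma'))) v).1 hv
      rwa [inv_inv] at h2
    refine retr_uniq R (exists_mul_V R i (u * u').2).choose_spec.1 (mul_mem ma ma') hv'' (mul_mem h1 hv') ?_
    have h3 : ((u * u' : ↥(Sup X (Pos cs h))) : Y) = (a * v) * (a' * v') := by
      rw [Subgroup.coe_mul, hu, hu']
    rw [← hu'', h3]
    group)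

theorem retr_eq [Finite W] {i : I} {u : ↥(Sup X (Pos cs h))} {a : ↥(X (sr i))} {v : Y}
    (hv : v ∈ Sup X (PosNe cs h i)) (e : (u : Y) = a * v) : retr R i u = a := by
  obtain ⟨v', hv', hu'⟩ := (exists_mul_V R i u.2).choose_spec.2
  apply Subtype.ext
  exact retr_uniq R (exists_mul_V R i u.2).choose_spec.1 a.2 hv' hv (hu'.symm.trans e)

theorem retr_self [Finite W] {i : I} {u : ↥(Sup X (Pos cs h))} (hu : (u : Y) ∈ X (sr i)) :
    retr R i u = ⟨u, hu⟩ := retr_eq R (one_mem _) (mul_one _).symm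

theorem retr_ne [Finite W] {i : I} {u : ↥(Sup X (Pos cs h))} {x : I → ℤ} (hx : x ∈ Pos cs h) (hne : x ≠ sr i)
    (hu : (u : Y) ∈ X x) : retr R i u = 1 :=
  retr_eq R (a := 1) (le_Sup (S := PosNe cs h i) ⟨hx.1, hx.2, hne⟩ hu) (by simp)

/-- A character of `U` which is trivial on all positive root groups is trivial. -/
theorem hom_ext {ψ ψ' : ↥(Sup X (Pos cs h)) →* ℂˣ}
    (he : ∀ x ∈ Pos cs h, ∀ u : ↥(Sup X (Pos cs h)), (u : Y) ∈ X x → ψ u = ψ' u) : ψ = ψ' := by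
  have h1 : Sup X (Pos cs h) ≤ (ψ.eqLocus ψ').map (Subgroup.subtype _) := by
    refine Sup_le fun x hx y hy => ?_
    exact ⟨⟨y, le_Sup hx hy⟩, he x hx ⟨y, le_Sup hx hy⟩ hy, rfl⟩
  ext u
  obtain ⟨v, hv, hvu⟩ := h1 u.2
  have h2 : v = u := Subtype.ext hvu
  rw [h2] at hv
  exact congrArg Units.val hv

/-- The characters in `Ψ` are the families of nontrivial characters of the simple root groups. -/
noncomputable def psiEquiv [Finite W] : Psi cs h X ≃ ∀ i, {χ : ↥(X (sr i)) →* ℂˣ // χ ≠ 1} where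
  toFun ψ i := ⟨ψ.1.comp (Subgroup.inclusion (le_Sup (sr_mem_Pos R i))), by
    obtain ⟨u, hu, hu1⟩ := ψ.2.2 i
    intro h1
    apply hu1
    exact DFunLike.congr_fun h1 ⟨u, hu⟩⟩
  invFun χ := ⟨∏ i, (χ i).1.comp (retr R i), by
    constructor
    · intro x hx hxn u hu
      rw [MonoidHom.finsetProd_apply]
      refine Finset.prod_eq_one fun i _ => ?_
      rw [MonoidHom.comp_apply, retr_ne R hx (hxn i) hu, map_one]
    · intro i
      obtain ⟨u, hu⟩ : ∃ u, (χ i).1 u ≠ 1 := by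
        by_contra hcon
        push Not at hcon
        exact (χ i).2 (MonoidHom.ext hcon)
      refine ⟨⟨u, le_Sup (sr_mem_Pos R i) u.2⟩, u.2, ?_⟩
      rw [MonoidHom.finsetProd_apply, Finset.prod_eq_single i]
      · rw [MonoidHom.comp_apply, retr_self R (u := ⟨u, le_Sup (sr_mem_Pos R i) u.2⟩) u.2]
        exact hu
      · intro j _ hj
        rw [MonoidHom.comp_apply, retr_ne R (sr_mem_Pos R i) (u := ⟨u, le_Sup (sr_mem_Pos R i) u.2⟩)
          (fun e => hj (Cfsg.Agent.Nodes.sr_injective e).symm) u.2, map_one]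
      · intro hi
        exact absurd (Finset.mem_univ i) hi⟩
  left_inv ψ := by
    apply Subtype.ext
    apply hom_ext R
    intro x hx u hu
    change (∏ i, (ψ.1.comp (Subgroup.inclusion (le_Sup (sr_mem_Pos R i)))).comp (retr R i)) u = ψ.1 u
    rw [MonoidHom.finsetProd_apply]
    by_cases hs : ∃ i, x = sr i
    · obtain ⟨i, rfl⟩ := hs
      rw [Finset.prod_eq_single i]
      · rw [MonoidHom.comp_apply, retr_self R hu]
        rfl
      · intro j _ hj
        rw [MonoidHom.comp_apply, retr_ne R (sr_mem_Pos R i) (fun e => hj (Cfsg.Agent.Nodes.sr_injective e).symm) hu, map_one]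
      · intro hi
        exact absurd (Finset.mem_univ i) hi
    · push Not at hs
      rw [ψ.2.1 x hx hs u hu]
      refine Finset.prod_eq_one fun i _ => ?_
      rw [MonoidHom.comp_apply, retr_ne R hx (hs i) hu, map_one]
  right_inv χ := by
    funext i
    apply Subtype.ext
    apply MonoidHom.ext
    intro u
    change (∏ j, (χ j).1.comp (retr R j)) ⟨u, le_Sup (sr_mem_Pos R i) u.2⟩ = (χ i).1 u
    rw [MonoidHom.finsetProd_apply, Finset.prod_eq_single i]
    · rw [MonoidHom.comp_apply, retr_self R (u := ⟨u, le_Sup (sr_mem_Pos R i) u.2⟩) u.2]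
    · intro j _ hj
      rw [MonoidHom.comp_apply, retr_ne R (sr_mem_Pos R i) (u := ⟨u, le_Sup (sr_mem_Pos R i) u.2⟩)
        (fun e => hj (Cfsg.Agent.Nodes.sr_injective e).symm) u.2, map_one]
    · intro hi
      exact absurd (Finset.mem_univ i) hi

omit R in
/-- the number of nontrivial characters of a finite abelian group -/
theorem card_nontrivial_hom {G : Type*} [Group G] [Finite G] (hG : ∀ a b : G, a * b = b * a) :
    Nat.card {χ : G →* ℂˣ // χ ≠ 1} = Nat.card G - 1 := by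
  let _ : CommGroup G := { (inferInstance : Group G) with mul_comm := hG }
  have : Fintype (G →* ℂˣ) := Fintype.ofFinite _
  have h1 := CommGroup.card_monoidHom_of_hasEnoughRootsOfUnity G ℂ
  classical
  rw [Nat.card_eq_fintype_card, Fintype.card_subtype_compl, Fintype.card_subtype_eq, ← Nat.card_eq_fintype_card, h1]

/-- **The number of elements of `Ψ`.** -/
theorem card_psi [Finite W] [Finite Y] (hab : Ab X) :
    Nat.card (Psi cs h X) = ∏ i, (Nat.card (X (sr i)) - 1) := by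
  rw [Nat.card_congr (psiEquiv R), Nat.card_pi]
  refine Finset.prod_congr rfl fun i _ => ?_
  exact card_nontrivial_hom fun a b => Subtype.ext (hab i a a.2 b b.2)

/-! ### orbits -/

theorem torb_eq [Finite W] (ψ : ↥(Sup X (Pos cs h)) →* ℂˣ) :
    H55.Sd.torb (Sup X (Pos cs h)) T ψ = Set.range fun t : T => actT R t ψ := by
  ext ψ'
  constructor
  · rintro ⟨t, ht, he⟩
    refine ⟨⟨t, ht⟩, ?_⟩
    ext u
    have h1 : t * (u : Y) * t⁻¹ ∈ Sup X (Pos cs h) :=
      (Subgroup.mem_normalizer_iff.1 (R.T_le_normalizer_U ht) u).1 u.2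
    dsimp only
    rw [he u h1, actT_apply R ⟨t, ht⟩ ψ u h1]
  · rintro ⟨t, rfl⟩
    exact ⟨t, t.2, fun u hu => actT_apply R t ψ u hu⟩

/-- **The number of `T`-orbits on `Ψ`.** -/
theorem card_orbits [Finite W] [Finite Y] (hG1 : Sup X {x | IsRoot cs h x} = ⊤) (hZ : Subgroup.center Y = ⊥)
    (hS : Semi T X) :
    Nat.card (H55.Sd.torb (Sup X (Pos cs h)) T '' Psi cs h X) * Nat.card T = Nat.card (Psi cs h X) := by
  have hch : ∀ o : H55.Sd.torb (Sup X (Pos cs h)) T '' Psi cs h X, ∃ ψ ∈ Psi cs h X,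
      H55.Sd.torb (Sup X (Pos cs h)) T ψ = o := fun o => o.2
  choose r hr hro using hch
  rw [← Nat.card_prod]
  refine Nat.card_congr (Equiv.ofBijective (fun q => ⟨actT R q.2 (r q.1), actT_mem R q.2 (hr q.1)⟩) ⟨?_, ?_⟩)
  · rintro ⟨o, s⟩ ⟨o', s'⟩ he
    have he' : actT R s (r o) = actT R s' (r o') := congrArg Subtype.val he
    have h1 : r o = actT R (s' * s⁻¹) (r o') := by
      have h2 := congrArg (actT R s⁻¹) he'
      rwa [actT_mul, actT_mul, mul_inv_cancel, actT_one] at h2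
    have ho : o = o' := by
      apply Subtype.ext
      rw [← hro o, ← hro o', torb_eq R, torb_eq R]
      ext ψ'
      constructor
      · rintro ⟨t, rfl⟩
        dsimp only
        rw [h1, actT_mul]
        exact ⟨_, rfl⟩
      · rintro ⟨t, rfl⟩
        have h3 : r o' = actT R (s' * s⁻¹)⁻¹ (r o) := by
          rw [h1, actT_mul, mul_inv_cancel, actT_one]
        dsimp only
        rw [h3, actT_mul]
        exact ⟨_, rfl⟩
    subst ho
    have h3 := psi_free R hG1 hZ hS (hr o) h1.symm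
    have h4 : s' = s := mul_inv_eq_one.1 h3
    rw [h4]
  · rintro ⟨ψ, hψ⟩
    have h1 : ψ ∈ H55.Sd.torb (Sup X (Pos cs h)) T (r ⟨_, Set.mem_image_of_mem _ hψ⟩) := by
      rw [hro ⟨_, Set.mem_image_of_mem _ hψ⟩]
      change ψ ∈ H55.Sd.torb (Sup X (Pos cs h)) T ψ
      rw [torb_eq R]
      exact ⟨1, actT_one R ψ⟩
    rw [torb_eq R] at h1
    obtain ⟨t, ht⟩ := h1
    exact ⟨(⟨_, Set.mem_image_of_mem _ hψ⟩, t), Subtype.ext ht⟩

/-- **An odd number of orbits.** -/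
theorem odd_orbits [Finite W] [Finite Y] (hG1 : Sup X {x | IsRoot cs h x} = ⊤) (hZ : Subgroup.center Y = ⊥)
    (hab : Ab X) (hS : Semi T X) {c : ℕ} (hc : Odd c) (hT : c * Nat.card T = ∏ i, (Nat.card (X (sr i)) - 1)) :
    Odd (Nat.card (H55.Sd.torb (Sup X (Pos cs h)) T '' Psi cs h X)) := by
  have h1 := card_orbits R hG1 hZ hS
  rw [card_psi R hab, ← hT] at h1
  rw [Nat.eq_of_mul_eq_mul_right Nat.card_pos h1]
  exact hc

/-! ### the structures of TL-1 and TL-2 -/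

theorem GG_top (hG1 : Sup X {x | IsRoot cs h x} = ⊤) : GG cs h T X = ⊤ := by
  rw [eq_top_iff, ← hG1]
  exact le_sup_right

theorem B_eq : RGD.B cs h T X = Sup X (Pos cs h) ⊔ T := sup_comm _ _

/-- `U` is a Sylow subgroup. -/
theorem index_U [Finite W] [Finite Y] (hp : p.Prime) (hG : GG cs h T X = ⊤) : ¬ p ∣ (Sup X (Pos cs h)).index := by
  have : Fact p.Prime := ⟨hp⟩
  obtain ⟨P, hP⟩ := (R.isPGroup_Upos).exists_le_sylow
  have h1 := eq_U_of_isPGroup R P.2 hP (by rw [hG]; exact le_top)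
  rw [← h1]
  exact P.not_dvd_index

theorem torAut [Finite W] [Finite Y] (hp : p.Prime) (hp2 : p ≠ 2) (hG : GG cs h T X = ⊤)
    (hT : ∀ a ∈ T, ∀ b ∈ T, a * b = b * a) (hZ : Subgroup.center Y = ⊥) :
    H55.Sd.TorAut p (Sup X (Pos cs h)) T where
  prime := hp
  odd := hp2
  isP := R.isPGroup_Upos
  index := index_U R hp hG
  norm := by rw [normalizer_U' R hG, B_eq R]
  comm := hT
  cop := by
    intro hd
    have h1 := R.tcop
    rw [Nat.coprime_comm, hp.coprime_iff_not_dvd] at h1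
    exact h1 hd
  cen := hZ

theorem odd_card_U [Finite W] [Finite Y] (hp : p.Prime) (hp2 : p ≠ 2) : Odd (Nat.card ↥(Sup X (Pos cs h))) := by
  have : Fact p.Prime := ⟨hp⟩
  obtain ⟨k, hk⟩ := IsPGroup.iff_card.1 (R.isPGroup_Upos)
  rw [hk]
  exact (hp.odd_of_ne_two hp2).pow

theorem coprime_U_T [Finite W] [Finite Y] (hp : p.Prime) :
    Nat.Coprime (Nat.card ↥(Sup X (Pos cs h))) (Nat.card T) := by
  have : Fact p.Prime := ⟨hp⟩
  obtain ⟨k, hk⟩ := IsPGroup.iff_card.1 (R.isPGroup_Upos)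
  rw [hk]
  exact (Nat.Coprime.pow_left k R.tcop.symm)

/-- **The frame of TL-1.** -/
theorem sys [Finite W] [Finite Y] (hp : p.Prime) (hp2 : p ≠ 2) (hG : GG cs h T X = ⊤)
    (hT : ∀ a ∈ T, ∀ b ∈ T, a * b = b * a) (hF : FixSimple T X) {S : Set (I → ℤ)} (hS : Sep cs h T X S) :
    H150.Toral.Sys (Sup X (Pos cs h)) T (Subgroup.normalizer (T : Set Y)) where
  oddU := odd_card_U R hp hp2
  cop := coprime_U_T R hp
  comm := hT
  TN := Subgroup.le_normalizer
  NT := fun n hn t ht => (Subgroup.mem_normalizer_iff.1 hn t).1 ht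
  TU := fun t ht u hu => (Subgroup.mem_normalizer_iff.1 (R.T_le_normalizer_U ht) u).1 hu
  bruhat := by
    intro g
    have hgG : g ∈ GG cs h T X := by rw [hG]; exact Subgroup.mem_top _
    obtain ⟨w, hw⟩ := (mem_GG R).1 hgG
    obtain ⟨u, hu, k, hk, v, hv, rfl⟩ := exists_normal_form R hw
    exact ⟨u, hu, k, hk.mem_normalizer, v,
      Sup_mono (S := NW cs h w) (S' := Pos cs h) (fun x hx => ⟨hx.1, hx.2.1⟩) hv, rfl⟩
  uniq := by
    intro k hk m hm u hu v hv e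
    rw [NN_eq_normalizer R hG hF] at hk hm
    obtain ⟨w, hw⟩ := hk
    obtain ⟨w', hw'⟩ := hm
    have h1 : Cell R.nsys cs h X w m := by
      rw [e]
      exact ((cell_of_rp hw).mul_left (RGD.U_le_B hu)).mul_right (RGD.U_le_B hv)
    have h2 := Cell.unique R h1 (cell_of_rp hw')
    rw [← h2] at hw'
    exact hw.unique hw'
  fixU := fun u hu hc => eq_one_of_two R hF hu fun t ht => hc t ht.1 ht.2
  fixN := by
    intro g hg ho hc
    rw [NN_eq_normalizer R hG hF] at hg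
    exact mem_T_of_odd R hS hg ho fun t ht => hc t ht.1 ht.2

/-- **The characters in `Ψ` are regular.** -/
theorem reg [Finite W] [Finite Y] (hG : GG cs h T X = ⊤) (hF : FixSimple T X)
    {ψ : ↥(Sup X (Pos cs h)) →* ℂˣ} (hψ : ψ ∈ Psi cs h X) :
    H150.Toral.Reg (Sup X (Pos cs h)) T (Subgroup.normalizer (T : Set Y)) ψ := by
  obtain ⟨k, hk⟩ := exists_rp cs R.nsys (w0 cs)
  refine ⟨k, hk.mem_normalizer, (psi_trivial_iff R hψ hk).2 rfl, fun m hm ht => ?_⟩
  rw [NN_eq_normalizer R hG hF] at hm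
  obtain ⟨w, hw⟩ := hm
  have h1 := (psi_trivial_iff R hψ hw).1 ht
  rw [h1] at hw
  exact hk.unique hw

end

end Cfsg.Agent.H641.Sd
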