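import Cfsg.Agent.H641.Sd.Psi
import Cfsg.Agent.H55.Sd.Toral
import Cfsg.Agent.H150.Toral.Bridge

/-!
# `Row` for groups with a root group datum (S4579, task TL-3; helper641)
-/

set_option autoImplicit false
set_option linter.unusedSectionVars false

namespace Cfsg.Agent.H641.Sd

open CoxeterSystem Cfsg.Agent.ChevalleyStructure.CoxeterGeom Cfsg.Agent.Tits.Roots Cfsg.Agent.Tits.Core
  Cfsg.Agent.Nodes.Reps Cfsg.Agent.Nodes.BNOf Cfsg.Agent.Nodes.BNOf.RGD Cfsg.Agent.Nodes.Bruhat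
  Cfsg.Agent.Nodes.OppDec Cfsg.Agent.KFacts.RgdAut Cfsg.Agent.KFacts.RgdDiag

universe u

variable {I W : Type*} {Y : Type u} [Fintype I] [DecidableEq I] [Group W] [Group Y] {M : CoxeterMatrix I}
  {cs : CoxeterSystem M W} {A : I → I → ℤ} {h : IsCartan M A} {p : ℕ} {T : Subgroup Y} {n : I → Y}
  {X : (I → ℤ) → Subgroup Y}

/-- The conditions on a root group datum in the toral lemma. -/
structure TorCond (cs : CoxeterSystem M W) (h : IsCartan M A) (p : ℕ) (T : Subgroup Y) (X : (I → ℤ) → Subgroup Y)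
    (S : Set (I → ℤ)) : Prop where
  prime : p.Prime
  odd : p ≠ 2
  gen : Sup X {x | IsRoot cs h x} = ⊤
  cen : Subgroup.center Y = ⊥
  comm : ∀ a ∈ T, ∀ b ∈ T, a * b = b * a
  fix : FixSimple T X
  sep : Sep cs h T X S
  orb : Odd (Nat.card (H55.Sd.torb (Sup X (Pos cs h)) T '' Psi cs h X))

/-- **`Row` for a group with a root group datum**, from the frames. -/
theorem row_of_rgd (R : RGD cs h p T n X) [Finite W] [Finite Y] {S : Set (I → ℤ)} (hC : TorCond cs h p T X S)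
    {𝓜 : Set (Subgroup Y)} (hM : H55.Sd.Frames T 𝓜) (hreal : H55.Sd.RealOnT (Sup X (Pos cs h)) T 𝓜) :
    H643.Sd.Row Y := by
  have : Fintype Y := Fintype.ofFinite Y
  have hG := GG_top R hC.gen
  refine H55.Sd.row_of_toral (torAut R hC.prime hC.odd hG hC.comm hC.cen) (Psi cs h X) (psi_stable R hG hC.fix)
    hC.orb 𝓜 hM hreal fun M hM σ hσ ψ hψ => ?_
  exact H150.Toral.torConcl (sys R hC.prime hC.odd hG hC.comm hC.fix hC.sep) (reg R hG hC.fix hψ) hσ hM

end Cfsg.Agent.H641.Sd
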