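import Cfsg.Agent.KFacts.RgdInd
import Cfsg.Agent.KFacts.RgdDiag
import Cfsg.Agent.KFacts.RgdRigid
import Cfsg.Agent.KFacts.RgdFixU
import Cfsg.Agent.Nodes.NormalForm
import Mathlib.GroupTheory.FiniteAbelian.Duality

/-!
# The toral hypotheses for a root group datum (S4579, task TL-3; helper641)

`R : RGD cs h p T n X`, `U = ⟨X a : a > 0⟩`, `N = NN`. `Two T` is the set of the elements of `T` of `2`-power order.

* `eq_one_of_two` : `C_U(T_2) = 1` if this holds on the simple root groups;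
* `NN_eq_normalizer` : `N = N(T)`;
* `mem_T_of_odd` : an element of odd order of `N` which centralises `T_2` lies in `T`;
* `Psi` : the characters of `U` trivial on the non-simple positive root groups and nontrivial on the simple ones;
  `psi_trivial_iff` : `ψ` is trivial on `U ∩ n U n⁻¹` for the longest coset only; `psi_stable` : stability under
  automorphisms; `psi_free` : `T` acts freely; `card_psi` : the number of elements.
-/

set_option autoImplicit false
set_option linter.unusedSectionVars false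

namespace Cfsg.Agent.H641.Sd

open CoxeterSystem Cfsg.Agent.ChevalleyStructure.CoxeterGeom Cfsg.Agent.Tits.Roots Cfsg.Agent.Tits.Core
  Cfsg.Agent.Tits.Exchange Cfsg.Agent.Tits.RootComb Cfsg.Agent.Nodes.Reps Cfsg.Agent.Nodes.Comb
  Cfsg.Agent.Nodes.BNOf Cfsg.Agent.Nodes.BNOf.RGD Cfsg.Agent.Nodes.StabComb
  Cfsg.Agent.Nodes.Bruhat Cfsg.Agent.Nodes.OppDec Cfsg.Agent.Nodes.LeviDec Cfsg.Agent.Nodes.Unique
  Cfsg.Agent.KFacts.RgdInd Cfsg.Agent.KFacts.RgdAut Cfsg.Agent.KFacts.RgdDiag Cfsg.Agent.Nodes.NormalForm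

variable {I W Y : Type*} [Fintype I] [DecidableEq I] [Group W] [Group Y] {M : CoxeterMatrix I}
  {cs : CoxeterSystem M W} {A : I → I → ℤ} {h : IsCartan M A} {p : ℕ} {T : Subgroup Y} {n : I → Y}
  {X : (I → ℤ) → Subgroup Y}

/-- The elements of `2`-power order of `T`. -/
def Two (T : Subgroup Y) : Set Y := {t | t ∈ T ∧ ∃ k : ℕ, t ^ 2 ^ k = 1}

theorem conj_mem_two {g : Y} (hg : cj g T = T) {t : Y} (ht : t ∈ Two T) : g * t * g⁻¹ ∈ Two T := by
  obtain ⟨h1, k, hk⟩ := ht
  refine ⟨?_, k, ?_⟩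
  · rw [← hg]; exact conj_mem_cj.2 h1
  · rw [conj_pow, hk, mul_one, mul_inv_cancel]

/-- No element of the simple root groups is centralised by `T_2`. -/
def FixSimple (T : Subgroup Y) (X : (I → ℤ) → Subgroup Y) : Prop :=
  ∀ i, ∀ x ∈ X (sr i), (∀ t ∈ Two T, t * x = x * t) → x = 1

section

variable (R : RGD cs h p T n X)

include R

theorem fix_root [Finite W] (hF : FixSimple T X) {z : I → ℤ} (hz : IsRoot cs h z) {x : Y} (hx : x ∈ X z)
    (hc : ∀ t ∈ Two T, t * x = x * t) : x = 1 := by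
  obtain ⟨w, i, rfl⟩ := hz
  obtain ⟨g, hg⟩ := exists_rp cs R.nsys w
  have h1 : g⁻¹ * x * g ∈ X (sr i) := by
    have := R.conj_mem' hg ((isRoot_sr cs h i).act w) hx
    rwa [← rep_mul_apply, inv_mul_cancel, map_one, Module.End.one_apply] at this
  have h2 : g⁻¹ * x * g = 1 := by
    refine hF i _ h1 fun t ht => ?_
    have h3 := hc _ (conj_mem_two (cj_T R hg) ht)
    calc t * (g⁻¹ * x * g) = g⁻¹ * ((g * t * g⁻¹) * x) * g := by group
      _ = g⁻¹ * (x * (g * t * g⁻¹)) * g := by rw [h3]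
      _ = g⁻¹ * x * g * t := by group
  have h3 : x = g * (g⁻¹ * x * g) * g⁻¹ := by group
  rw [h3, h2, mul_one, mul_inv_cancel]

/-- **`C_U(T_2) = 1`.** -/
theorem eq_one_of_two [Finite W] (hF : FixSimple T X) {u : Y} (hu : u ∈ Sup X (Pos cs h))
    (hc : ∀ t ∈ Two T, t * u = u * t) : u = 1 := by
  let f : (I → ℤ) →+ ℤ := ⟨⟨fun x => ht x, by simp [ht]⟩, fun x y => ht_add x y⟩
  have h1 := cent_closed R f (S := Pos cs h) (fun x hx => ⟨hx.1, ht_pos hx.1 hx.2⟩) closed_pos
    (C := Two T) (fun t ht => ht.1) hu (Subgroup.mem_centralizer_iff.2 hc)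
  have h2 : Sup (fun x => X x ⊓ Subgroup.centralizer (Two T)) (Pos cs h) ≤ ⊥ := by
    refine Sup_le fun z hz x hx => ?_
    rw [Subgroup.mem_bot]
    exact fix_root R hF hz.1 hx.1 fun t ht => Subgroup.mem_centralizer_iff.1 hx.2 t ht
  exact (Subgroup.mem_bot).1 (h2 h1)

/-- `N_U(T) = 1`. -/
theorem eq_one_of_norm [Finite W] (hF : FixSimple T X) {u : Y} (hu : u ∈ Sup X (Pos cs h))
    (hn : ∀ t ∈ T, u * t * u⁻¹ ∈ T) : u = 1 := by
  refine eq_one_of_two R hF hu fun t ht => ?_
  have h1 : u * t * u⁻¹ * t⁻¹ ∈ T := mul_mem (hn t ht.1) (inv_mem ht.1)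
  have h2 : u * t * u⁻¹ * t⁻¹ ∈ Sup X (Pos cs h) := by
    have h3 := (Subgroup.mem_normalizer_iff.1 (R.T_le_normalizer_U ht.1) u⁻¹).1 (inv_mem hu)
    have h4 : u * t * u⁻¹ * t⁻¹ = u * (t * u⁻¹ * t⁻¹) := by group
    rw [h4]
    exact mul_mem hu h3
  have h3 : u * t * u⁻¹ * t⁻¹ = 1 := by
    have : u * t * u⁻¹ * t⁻¹ ∈ Sup X (Pos cs h) ⊓ T := ⟨h2, h1⟩
    rw [U_inf_T R] at this
    exact Subgroup.mem_bot.1 this
  have h4 : u * t = t * u := by
    have := congrArg (· * (t * u)) h3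
    simpa [mul_assoc] using this
  exact h4.symm

/-- **`N = N(T)`.** -/
theorem NN_eq_normalizer [Finite W] (hG : GG cs h T X = ⊤) (hF : FixSimple T X) :
    Subgroup.normalizer (T : Set Y) = NN cs R.nsys := by
  apply le_antisymm
  · intro g hg
    have hgG : g ∈ GG cs h T X := by rw [hG]; exact Subgroup.mem_top _
    obtain ⟨w, hw⟩ := (mem_GG R).1 hgG
    obtain ⟨u, hu, k, hk, v, hv, rfl⟩ := exists_normal_form R hw
    have key : ∀ t ∈ T, (∃ t' ∈ T, t' * u * t'⁻¹ = u ∧ t' * k = k * t ∧ v = t⁻¹ * v * t) := by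
      intro t ht
      have h1 := (Subgroup.mem_normalizer_iff.1 hg t).1 ht
      refine ⟨_, h1, ?_⟩
      obtain ⟨t', ht'⟩ : ∃ t', t' = u * k * v * t * (u * k * v)⁻¹ := ⟨_, rfl⟩
      rw [← ht'] at h1 ⊢
      have h2 : t' * (u * k * v) = u * k * v * t := by rw [ht']; group
      have h3 : (t' * u * t'⁻¹) * (t' * k) * v = u * (k * t) * (t⁻¹ * v * t) := by
        calc (t' * u * t'⁻¹) * (t' * k) * v = t' * (u * k * v) := by group
          _ = u * k * v * t := h2
          _ = u * (k * t) * (t⁻¹ * v * t) := by group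
      have hkt' : Rp cs R.nsys w (t' * k) := by
        have := (rp_of_mem (cs := cs) (hN := R.nsys) h1).mul hk
        rwa [one_mul] at this
      have hv' : t⁻¹ * v * t ∈ Sup X (NW cs h w) := by
        have := (Subgroup.mem_normalizer_iff.1 (R.T_le_normalizer (S := NW cs h w) (fun x hx => hx.1)
          (inv_mem ht)) v).1 hv
        rwa [inv_inv] at this
      exact normal_form_unique R ((Subgroup.mem_normalizer_iff.1 (R.T_le_normalizer_U h1) u).1 hu) hu hkt'
        (hk.mul_mem_right ht) hv hv' h3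
    have hv1 : v = 1 := by
      refine eq_one_of_two R hF (Sup_mono (S := NW cs h w) (S' := Pos cs h) (fun x hx => ⟨hx.1, hx.2.1⟩) hv) fun t ht => ?_
      obtain ⟨-, -, -, -, h1⟩ := key t ht.1
      have h2 := congrArg (t * ·) h1
      simpa [mul_assoc] using h2
    have hu1 : u = 1 := by
      refine eq_one_of_two R hF hu fun t ht => ?_
      have h3 : k⁻¹ * t * k ∈ T := by
        have h4 : t ∈ cj k T := by rw [cj_T R hk]; exact ht.1
        exact mem_cj.1 h4
      obtain ⟨t', -, h1, h2, -⟩ := key _ h3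
      have h4 : t' = t := by
        have h5 : t' * k = t * k := by rw [h2]; group
        exact mul_right_cancel h5
      rw [h4] at h1
      have h5 := congrArg (· * t) h1
      simpa [mul_assoc] using h5
    rw [hu1, hv1, one_mul, mul_one]
    exact ⟨w, hk⟩
  · rintro g ⟨w, hw⟩
    exact hw.mem_normalizer

/-- The set of roots separated (up to sign) by `T_2`. -/
structure Sep (cs : CoxeterSystem M W) (h : IsCartan M A) (T : Subgroup Y) (X : (I → ℤ) → Subgroup Y)
    (S : Set (I → ℤ)) : Prop where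
  root : ∀ x ∈ S, IsRoot cs h x
  act : ∀ x ∈ S, ∀ w, rep cs h w x ∈ S
  sep : ∀ x ∈ S, ∀ y ∈ S, (∀ t ∈ Two T, (∀ a ∈ X x, t * a = a * t) ↔ ∀ a ∈ X y, t * a = a * t) → y = x ∨ y = -x
  span : ∀ w, (∀ x ∈ S, rep cs h w x = x) → w = 1

/-- **An element of odd order of `N` which centralises `T_2` lies in `T`.** -/
theorem mem_T_of_odd [Finite W] {S : Set (I → ℤ)} (hS : Sep cs h T X S) {g : Y} (hg : g ∈ NN cs R.nsys)
    (ho : Odd (orderOf g)) (hc : ∀ t ∈ Two T, t * g = g * t) : g ∈ T := by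
  obtain ⟨w, hw⟩ := hg
  have h1 : ∀ x ∈ S, rep cs h w x = x ∨ rep cs h w x = -x := by
    intro x hx
    refine hS.sep x hx _ (hS.act x hx w) fun t ht => ?_
    constructor
    · intro h1 a ha
      have h2 : g⁻¹ * a * g ∈ X x := by
        have := R.conj_mem' hw (hS.root _ (hS.act x hx w)) ha
        rwa [← rep_mul_apply, inv_mul_cancel, map_one, Module.End.one_apply] at this
      have h3 := h1 _ h2
      have h4 := hc t ht
      have h5 : g⁻¹ * t = t * g⁻¹ := by
        have := congrArg (fun z => g⁻¹ * z * g⁻¹) h4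
        simpa [mul_assoc] using this
      calc t * a = g * (g⁻¹ * t) * a := by group
        _ = g * (t * g⁻¹) * a := by rw [h5]
        _ = g * (t * (g⁻¹ * a * g)) * g⁻¹ := by group
        _ = g * ((g⁻¹ * a * g) * t) * g⁻¹ := by rw [h3]
        _ = a * (g * t * g⁻¹) := by group
        _ = a * t := by rw [← h4]; group
    · intro h1 a ha
      have h2 := h1 _ (R.conj_mem hw (hS.root x hx) ha)
      have h4 := hc t ht
      calc t * a = g⁻¹ * (g * t) * a := by group
        _ = g⁻¹ * (t * g) * a := by rw [h4]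
        _ = g⁻¹ * (t * (g * a * g⁻¹)) * g := by group
        _ = g⁻¹ * ((g * a * g⁻¹) * t) * g := by rw [h2]
        _ = a * (g⁻¹ * (t * g)) := by group
        _ = a * t := by rw [h4]; group
  have h2 : w * w = 1 := by
    refine hS.span _ fun x hx => ?_
    rw [rep_mul_apply]
    rcases h1 x hx with e | e
    · rw [e, e]
    · rw [e, map_neg, e, neg_neg]
  have h3 : w ^ orderOf g = 1 := by
    have h4 := rp_pow hw (orderOf g)
    rw [pow_orderOf_eq_one] at h4
    exact R.eq_one_of_mem_B h4 (one_mem _)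
  have h4 : w = 1 := by
    obtain ⟨m, hm⟩ := ho
    rw [hm, pow_succ, pow_mul, pow_two, h2, one_pow, one_mul] at h3
    exact h3
  subst h4
  exact hw.mem_of_one

end

/-! ### The characters of `U` -/

/-- The characters of `U` trivial on the non-simple positive root groups and nontrivial on the simple root groups. -/
def Psi (cs : CoxeterSystem M W) (h : IsCartan M A) (X : (I → ℤ) → Subgroup Y) :
    Set (↥(Sup X (Pos cs h)) →* ℂˣ) :=
  {ψ | (∀ x ∈ Pos cs h, (∀ i, x ≠ sr i) → ∀ u : ↥(Sup X (Pos cs h)), (u : Y) ∈ X x → ψ u = 1) ∧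
    ∀ i, ∃ u : ↥(Sup X (Pos cs h)), (u : Y) ∈ X (sr i) ∧ ψ u ≠ 1}

section

variable (R : RGD cs h p T n X)

include R

/-- **`ψ ∈ Ψ` is trivial on `U ∩ g U g⁻¹` for exactly one coset of `T`.** -/
theorem psi_trivial_iff [Finite W] {ψ : ↥(Sup X (Pos cs h)) →* ℂˣ} (hψ : ψ ∈ Psi cs h X) {w : W} {g : Y}
    (hg : Rp cs R.nsys w g) :
    (∀ u : ↥(Sup X (Pos cs h)), g⁻¹ * (u : Y) * g ∈ Sup X (Pos cs h) → ψ u = 1) ↔ w = w0 cs := by
  constructor
  · intro h1
    by_contra hne
    obtain ⟨i, hi⟩ : ∃ i, 0 ≤ rep cs h w⁻¹ (sr i) := by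
      by_contra hcon
      push Not at hcon
      apply hne
      apply eq_w0 R
      intro r hr hr0
      have h2 : r = ∑ k, r k • sr k := by
        funext j
        simp [Finset.sum_apply, sr, Pi.single_apply]
      rw [h2, map_sum]
      refine Finset.sum_nonpos fun k _ => ?_
      rw [map_smul]
      intro j
      rw [Pi.smul_apply, smul_eq_mul]
      have h3 : rep cs h w⁻¹ (sr k) ≤ 0 := neg_nonneg.1 (((isRoot_sr cs h k).act w⁻¹).not_nonneg_iff_neg.1 (hcon k))
      exact mul_nonpos_of_nonneg_of_nonpos (hr0 k) (h3 j)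
    obtain ⟨u, hu, hu1⟩ := hψ.2 i
    apply hu1
    apply h1
    exact le_Sup (S := Pos cs h) ⟨(isRoot_sr cs h i).act _, hi⟩ (R.conj_mem' hg (isRoot_sr cs h i) hu)
  · rintro rfl u hu
    have h1 : (u : Y) = 1 := by
      refine eq_one_of_mem_U_of_mem_BN R u.2 (UN_le_BN ?_)
      rw [← cj_U R hg]
      exact mem_cj.2 hu
    have h2 : u = 1 := Subtype.ext h1
    rw [h2, map_one]

end

end Cfsg.Agent.H641.Sd
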