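import Cfsg.Agent.H641.Sd.E6
import Cfsg.Agent.Nodes.RGDTwActE6
import Cfsg.Agent.H643.Gow.TwE
import Cfsg.Agent.H35.ExcIdxTw
import Cfsg.Agent.S1070
import Cfsg.Agent.S1102

/-!
# The toral hypotheses for `²E₆(q)`, `q` odd (S4579, task TL-3; helper641)
-/

set_option autoImplicit false
set_option linter.unusedSectionVars false

namespace Cfsg.Agent.H641.Sd.TwE6

open CoxeterSystem Cfsg.Agent.ChevalleyStructure.CoxeterGeom Cfsg.Agent.Tits.Roots Cfsg.Agent.Tits.Core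
  Cfsg.Agent.Nodes.Reps Cfsg.Agent.Nodes.BNOf Cfsg.Agent.Nodes.BNOf.RGD Cfsg.Agent.Nodes.Bruhat
  Cfsg.Agent.Nodes.OppDec Cfsg.Agent.KFacts.RgdAut Cfsg.Agent.KFacts.RgdDiag
open Cfsg.Lie Cfsg.Agent.Nodes Cfsg.Agent.Nodes.RGDTwE6 Cfsg.Agent.Nodes.RGDTwActE6 Cfsg.Agent.Nodes.RGDTwComE6
  Cfsg.Agent.Nodes.RGDTwCoordE6 Cfsg.Agent.Nodes.RGDTwCoord Cfsg.Agent.H643.Gow.TwE Cfsg.Agent.KFacts.RgdField

universe u

/-- The class of a vector. -/
local notation "cl" => RGDTwCoord.cl chevE6 J O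

/-- the Coxeter system -/
abbrev cs : CoxeterSystem CoxeterMatrix.F₄ CoxeterMatrix.F₄.Group := CoxeterMatrix.F₄.toCoxeterSystem

instance : Finite CoxeterMatrix.F₄.Group :=
  Nodes.RGDFold.finite_W (hp := Nodes.RGDTwE6.hp) cs Nodes.RGDTwE6.isCartan Nodes.RGDTwE6.foldData

/-- the parities separate the short roots up to sign -/
theorem par_tab : ∀ i k : Fin 48, St (vv i) → St (vv k) →
    (∀ j : Fin 4, pairing A j (vv i) % 2 = pairing A j (vv k) % 2) → vv k = vv i ∨ vv k = -vv i := by decide +kernel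

/-- every simple root has an odd pairing with a simple root of the same length -/
theorem odd_tab : ∀ i : Fin 4, ∃ j : Fin 4, (St (sr i) ∨ (j : ℕ) < 2) ∧ pairing A j (sr i) % 2 = 1 := by decide

/-- the pairings of the short roots with the short simple roots -/
theorem sh_tab : ∀ i : Fin 48, St (vv i) → ∀ j : Fin 4, 2 ≤ (j : ℕ) →
    ((vv i = sr j ∨ vv i = -sr j) → pairing A j (vv i) % 2 = 0) ∧
    (¬ (vv i = sr j ∨ vv i = -sr j) → pairing A j (vv i) ≠ 0 → pairing A j (vv i) % 2 = 1) := by decide +kernel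

variable {K : Type u} [Field K] {q : ℕ} {φ : K →+* K} {z : Fin 4 → ℤ}

theorem zpow_par (h2 : (-1 : K) ≠ 1) (m : ℤ) : (-1 : K) ^ m = 1 ↔ m % 2 = 0 := by
  rcases Int.even_or_odd m with hm | hm
  · rw [hm.neg_one_zpow]
    exact ⟨fun _ => Int.even_iff.1 hm, fun _ => rfl⟩
  · rw [hm.neg_one_zpow]
    refine ⟨fun h => absurd h h2, fun h => ?_⟩
    rw [Int.odd_iff.1 hm] at h
    exact absurd h one_ne_zero

/-- The scalar of `hh j (-1)` on a short root, or on any root if the node `j` is long. -/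
theorem sc_par (h2 : (-1 : K) ≠ 1) (hz : IsRoot cs isCartan z) (j : Fin 4) (hj : St z ∨ (j : ℕ) < 2) :
    sc φ j z (-1) = 1 ↔ pairing A j z % 2 = 0 := by
  unfold sc
  by_cases hj2 : (j : ℕ) < 2
  · rw [if_pos hj2, zpow_par h2]
  · have hs : St z := hj.resolve_right hj2
    rw [if_neg hj2, if_neg (fun hl => not_both hl hs), map_neg, map_one]
    obtain ⟨i, rfl⟩ := exists_vv hz
    obtain ⟨h3, h4⟩ := sh_tab i hs j (by omega)
    have h5 : (-1 : K) ^ (2 : ℤ) = 1 := by rw [zpow_par h2]; rfl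
    have h6 : (-1 : K) ^ (-2 : ℤ) = 1 := by rw [zpow_par h2]; rfl
    split_ifs with h7 h8 h9 h10
    · exact ⟨fun _ => h3 (Or.inl h8), fun _ => h5⟩
    · refine ⟨fun h => absurd h h2, fun h => ?_⟩
      by_cases h9 : vv i = -sr j
      · exfalso
        have h10 : pairing A j (vv i) = -2 := by
          rw [h9]
          exact (by decide : ∀ j : Fin 4, pairing A j (-sr j) = -2) j
        omega
      · have := h4 (by tauto) (by omega)
        omega
    · rw [h9]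
      refine ⟨fun _ => rfl, fun _ => ?_⟩
      rw [inv_neg, inv_one, neg_mul_neg, one_mul]
    · exact ⟨fun _ => h3 (Or.inr h10), fun _ => h6⟩
    · refine ⟨fun h => ?_, fun h => ?_⟩
      · exfalso
        rw [inv_neg, inv_one] at h
        exact h2 h
      · by_cases h11 : vv i = sr j
        · exfalso
          have h12 : pairing A j (vv i) = 2 := by
            rw [h11]
            exact (by decide : ∀ j : Fin 4, pairing A j (sr j) = 2) j
          omega
        · have := h4 (by tauto) h9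
          omega

/-- The square of the scalar of `hh j (-1)` is one. -/
theorem sc_sq (z : Fin 4 → ℤ) (j : Fin 4) : sc φ j z (-1) * sc φ j z (-1) = 1 := by
  have h1 : ∀ m : ℤ, (-1 : K) ^ m * (-1 : K) ^ m = 1 := fun m => by
    rw [← mul_zpow, neg_mul_neg, one_mul, one_zpow]
  unfold sc
  rw [map_neg, map_one]
  split_ifs
  · exact h1 _
  · rw [neg_mul_neg, one_mul, one_zpow, one_mul]
  · exact h1 _
  · rw [neg_mul_neg, one_mul]
  · rw [inv_neg, inv_one, neg_mul_neg, one_mul, one_mul]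
  · exact h1 _
  · rw [inv_neg, inv_one, neg_mul_neg, one_mul]

variable [Fintype K] (hφ : ∀ x, φ x = x ^ q) (hqq : ∀ t : K, (t ^ q) ^ q = t)

include hφ hqq

theorem ok_neg (j : Fin 4) : OkN φ j (-1 : K) := Or.inr (by rw [map_neg, map_one])

omit [Fintype K] hφ hqq in
theorem neg_one_ne_zero' : (-1 : K) ≠ 0 := neg_ne_zero.2 one_ne_zero

theorem hh_mem (j : Fin 4) : hh φ q j (-1 : K) ∈ T K q := (coe_hh hφ hqq neg_one_ne_zero' (ok_neg hφ hqq j)).2

/-- commutation of `hh j (-1)` with a root element -/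
theorem comm_hh (hz : IsRoot cs isCartan z) (j : Fin 4) {a : K} (ha : Ok chevE6 J O φ z a) (ha0 : a ≠ 0) :
    hh φ q j (-1 : K) * x φ q z a = x φ q z a * hh φ q j (-1 : K) ↔ sc φ j z (-1) = 1 := by
  obtain ⟨h1, h2⟩ := conj_hh hφ hqq hz neg_one_ne_zero' (ok_neg hφ hqq j) ha
  rw [← mul_inv_eq_iff_eq_mul, h2]
  constructor
  · intro h3
    exact (mul_eq_right₀ ha0).1 (x_inj hφ hqq hz (Ok.mul h1 ha) ha h3)
  · intro h3
    rw [h3, one_mul]

/-- commutation of `hh j (-1)` with a root group -/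
theorem comm_all (hz : IsRoot cs isCartan z) (j : Fin 4) :
    (∀ a ∈ X φ q z, hh φ q j (-1 : K) * a = a * hh φ q j (-1 : K)) ↔ sc φ j z (-1) = 1 := by
  constructor
  · intro h1
    exact (comm_hh hφ hqq hz j (ok_one z) one_ne_zero).1 (h1 _ (x_mem hφ hqq hz (ok_one z)))
  · rintro h1 a ha
    obtain ⟨a, hok, rfl⟩ := (mem_X hφ hqq hz a).1 ha
    by_cases ha0 : a = 0
    · rw [ha0, x_zero hφ hqq hz, mul_one, one_mul]
    · exact (comm_hh hφ hqq hz j hok ha0).2 h1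

theorem semi : Semi (T K q) (X φ q) := by
  intro i t ht y hy hy1 hc
  have hz := isRoot_sr cs isCartan i
  obtain ⟨χ, -, hχ, hact⟩ := conj_T hφ hqq hz ht
  obtain ⟨a, hok, rfl⟩ := (mem_X hφ hqq hz y).1 hy
  have ha : a ≠ 0 := fun h0 => hy1 (by rw [h0, x_zero hφ hqq hz])
  have h1 : χ = 1 := by
    have h2 := hact a hok
    rw [mul_inv_eq_iff_eq_mul.2 hc] at h2
    exact (mul_eq_right₀ ha).1 (x_inj hφ hqq hz (Ok.mul hχ hok) hok h2.symm)
  intro v hv
  obtain ⟨b, hokb, rfl⟩ := (mem_X hφ hqq hz v).1 hv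
  have h3 := hact b hokb
  rw [h1, one_mul] at h3
  exact mul_inv_eq_iff_eq_mul.1 h3

theorem ab : Ab (X φ q) := by
  intro i a ha b hb
  have hz := isRoot_sr cs isCartan i
  obtain ⟨a, hoka, rfl⟩ := (mem_X hφ hqq hz a).1 ha
  obtain ⟨b, hokb, rfl⟩ := (mem_X hφ hqq hz b).1 hb
  rw [← x_add hφ hqq hz hoka hokb, ← x_add hφ hqq hz hokb hoka, add_comm]

omit [Fintype K] hφ hqq in
theorem T_comm : ∀ a ∈ T K q, ∀ b ∈ T K q, a * b = b * a := by
  intro a ha b hb
  unfold T at ha hb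
  rw [Subgroup.mem_subgroupOf] at ha hb
  have h1 := BpExc.TorChev.TT_comm (D := chevE6) (K := K) E6.isType
    ⟨(a : GL chevE6.Idx K), ChevalleyStructure.Elts.diagonal_le_group E6.isType.inList K ha.1⟩
    (Subgroup.mem_subgroupOf.2 ha.1)
    ⟨(b : GL chevE6.Idx K), ChevalleyStructure.Elts.diagonal_le_group E6.isType.inList K hb.1⟩
    (Subgroup.mem_subgroupOf.2 hb.1)
  exact Subtype.ext (congrArg (Subtype.val : ↥(chevE6.group K) → _) h1)

omit hφ hqq in
theorem center_eq (hq : IsPrimePow q) (hK : Fintype.card K = q ^ 2) :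
    Subgroup.center ↥(twistedE6 K q) = ⊥ := by
  obtain ⟨h1, h2⟩ := Cfsg.Agent.S1070.result hq hK
  rcases (inferInstance : (Subgroup.center ↥(twistedE6 K q)).Normal).eq_bot_or_eq_top with h3 | h3
  · exact h3
  · exfalso
    apply h2
    constructor
    constructor
    intro a b
    have h4 : a ∈ Subgroup.center ↥(twistedE6 K q) := by rw [h3]; exact Subgroup.mem_top _
    exact (Subgroup.mem_center_iff.1 h4 b).symm

theorem G1_top : Sup (X φ q) {x | IsRoot cs isCartan x} = ⊤ := Nodes.RGDTwE6.G1_eq_top cs hφ hqq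

variable (hq : IsPrimePow q) (hK : Fintype.card K = q ^ 2) (p : ℕ) [Fact p.Prime] [CharP K p]

include hq hK

theorem hh_two (j : Fin 4) : hh φ q j (-1 : K) ∈ Two (T K q) := by
  obtain ⟨p, hp'⟩ := CharP.exists K
  have : Fact p.Prime := ⟨CharP.char_is_prime K p⟩
  have hT := hh_mem hφ hqq j
  refine ⟨hT, 1, ?_⟩
  rw [pow_one, pow_two]
  refine eq_one_of_simple (Nodes.RGDTwE6.rgd cs hφ hqq p) (G1_top hφ hqq) (center_eq hq hK) (mul_mem hT hT)
    fun i y hy => ?_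
  have hz := isRoot_sr cs isCartan i
  obtain ⟨a, hok, rfl⟩ := (mem_X hφ hqq hz y).1 hy
  obtain ⟨h1, h2⟩ := conj_hh hφ hqq hz neg_one_ne_zero' (ok_neg hφ hqq j) hok
  obtain ⟨h3, h4⟩ := conj_hh hφ hqq hz neg_one_ne_zero' (ok_neg hφ hqq j) (Ok.mul h1 hok)
  rw [← mul_assoc, sc_sq, one_mul, ← h2] at h4
  have h5 : hh φ q j (-1 : K) * hh φ q j (-1 : K) * x φ q (sr i) a =
      hh φ q j (-1 : K) * (hh φ q j (-1 : K) * x φ q (sr i) a * (hh φ q j (-1 : K))⁻¹) *
        (hh φ q j (-1 : K))⁻¹ * (hh φ q j (-1 : K) * hh φ q j (-1 : K)) := by group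
  rw [h5, h4]

omit hφ hqq hq hK in
theorem neg_one_ne (hp2 : p ≠ 2) : (-1 : K) ≠ 1 := by
  have := Finite.of_fintype K
  exact E6.neg_one_ne K p hp2

include p in
theorem fix (hp2 : p ≠ 2) : FixSimple (T K q) (X φ q) := by
  intro i y hy hc
  have h2 := neg_one_ne (K := K) p hp2
  have hz := isRoot_sr cs isCartan i
  obtain ⟨a, hok, rfl⟩ := (mem_X hφ hqq hz y).1 hy
  by_contra hne
  have ha : a ≠ 0 := fun h0 => hne (by rw [h0, x_zero hφ hqq hz])
  obtain ⟨j, hj, hjo⟩ := odd_tab i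
  have h3 := hc _ (hh_two hφ hqq hq hK j)
  rw [comm_hh hφ hqq hz j hok ha, sc_par h2 hz j hj] at h3
  omega

include p in
theorem sep (hp2 : p ≠ 2) : Sep cs isCartan (T K q) (X φ q) {z | IsRoot cs isCartan z ∧ St z} where
  root := fun x hx => hx.1
  act := fun x hx w => ⟨IsRoot.act hx.1 w, (St_rep w x).2 hx.2⟩
  sep := by
    rintro z ⟨hz, sz⟩ w ⟨hw, sw⟩ he
    have h2 := neg_one_ne (K := K) p hp2
    have h3 : ∀ j : Fin 4, pairing A j z % 2 = pairing A j w % 2 := by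
      intro j
      have h4 := he _ (hh_two hφ hqq hq hK j)
      rw [comm_all hφ hqq hz, comm_all hφ hqq hw, sc_par h2 hz j (Or.inl sz), sc_par h2 hw j (Or.inl sw)] at h4
      omega
    obtain ⟨i, rfl⟩ := exists_vv hz
    obtain ⟨k, rfl⟩ := exists_vv hw
    exact par_tab i k sz sw h3
  span := by
    intro w hw
    have hS : ∀ {x : Fin 4 → ℤ}, IsRoot cs isCartan x ∧ St x → ∀ v, IsRoot cs isCartan (rep cs isCartan v x) ∧
      St (rep cs isCartan v x) := fun {x} hx v => ⟨IsRoot.act hx.1 v, (St_rep v x).2 hx.2⟩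
    have h2 : IsRoot cs isCartan (sr 2) ∧ St (sr 2) := ⟨isRoot_sr cs isCartan 2, by decide⟩
    have h3 : IsRoot cs isCartan (sr 3) ∧ St (sr 3) := ⟨isRoot_sr cs isCartan 3, by decide⟩
    have h4 := hS h2 (cs.simple 1)
    have h5 := hS h4 (cs.simple 0)
    have e4 : rep cs isCartan (cs.simple 1) (sr 2) = sr 2 + sr 1 := by
      rw [rep_simple_eq, (by decide : pairing A 1 (sr 2) = -1), neg_smul, one_smul, sub_neg_eq_add]
    have e5 : rep cs isCartan (cs.simple 0) (sr 2 + sr 1) = sr 2 + sr 1 + sr 0 := by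
      rw [rep_simple_eq, (by decide : pairing A 0 (sr 2 + sr 1) = -1), neg_smul, one_smul, sub_neg_eq_add]
    rw [e4] at h4 h5
    rw [e5] at h5
    have k2 := hw _ h2
    have k3 := hw _ h3
    have k4 := hw _ h4
    have k5 := hw _ h5
    rw [map_add, k2] at k4
    have k1 : rep cs isCartan w (sr 1) = sr 1 := add_left_cancel k4
    rw [map_add, map_add, k2, k1] at k5
    have k0 : rep cs isCartan w (sr 0) = sr 0 := add_left_cancel k5
    apply eq_one_of_nonneg cs isCartan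
    intro i
    have h6 : rep cs isCartan w (sr i) = sr i := by
      fin_cases i
      · exact k0
      · exact k1
      · exact k2
      · exact k3
    have h7 : (0 : Fin 4 → ℤ) ≤ sr i := sr_nonneg i
    rw [← h6] at h7
    exact h7

omit hφ hqq hq hK in
theorem card_T (hq : IsPrimePow q) (hK : Fintype.card K = q ^ 2) :
    Nat.gcd 3 (q + 1) * Nat.card (T K q) = (q - 1) ^ 4 * (q + 1) ^ 2 := by
  have h1 := S1102.result (K := K) hq hK
  rw [← h1]
  congr 1
  exact Nat.card_congr (Subgroup.subgroupOfEquivOfLe (inf_le_right : chevE6.diagonalSubgroup K ⊓ twistedE6 K q ≤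
    twistedE6 K q)).toEquiv

include p in
theorem odd_orb : Odd (Nat.card (H55.Sd.torb (Sup (X φ q) (Pos cs isCartan)) (T K q) '' Psi cs isCartan (X φ q))) := by
  have h2 : Odd (Nat.gcd 3 (q + 1)) := by
    have h3 : Nat.gcd 3 (q + 1) ∣ 3 := Nat.gcd_dvd_left _ _
    rcases (Nat.dvd_prime Nat.prime_three).1 h3 with h4 | h4
    · rw [h4]; exact odd_one
    · rw [h4]; decide
  refine odd_orbits (Nodes.RGDTwE6.rgd cs hφ hqq p) (G1_top hφ hqq) (center_eq hq hK) (ab hφ hqq) (semi hφ hqq)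
    h2 ?_
  rw [card_T hq hK]
  rw [Finset.prod_congr rfl fun i _ => by rw [H35.ExcIdx.card_X_tw hφ hqq hq.one_lt hK i]]
  simp only [Fin.prod_univ_four, H35.ExcIdx.fE]
  have h4 : q ^ 2 - 1 = (q - 1) * (q + 1) := by
    have h5 := hq.one_lt
    obtain ⟨m, rfl⟩ : ∃ m, q = m + 1 := ⟨q - 1, by omega⟩
    have h6 : (m + 1) ^ 2 = m * (m + 1 + 1) + 1 := by ring
    rw [h6, Nat.add_sub_cancel, Nat.add_sub_cancel]
  norm_num
  rw [h4]
  ring

include p in
/-- **The conditions of the toral lemma hold for `²E₆(q)`, `q` odd.** -/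
theorem torCond (hp2 : p ≠ 2) :
    TorCond cs isCartan p (T K q) (X φ q) {z | IsRoot cs isCartan z ∧ St z} where
  prime := Fact.out
  odd := hp2
  gen := G1_top hφ hqq
  cen := center_eq hq hK
  comm := T_comm
  fix := fix hφ hqq hq hK p hp2
  sep := sep hφ hqq hq hK p hp2
  orb := odd_orb hφ hqq hq hK p

omit [Fintype K] hφ hqq hq hK in
/-- **`Row` for `²E₆(q)`**, from the frames for odd `q`. -/
theorem row_2e6_of
    (hreal : ∀ (K : Type) [Field K] [Fintype K] (p : ℕ) [Fact p.Prime] [CharP K p] (q : ℕ), p ≠ 2 →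
      IsPrimePow q → Fintype.card K = q ^ 2 → ∀ (φ : K →+* K), (∀ x, φ x = x ^ q) → (∀ t : K, (t ^ q) ^ q = t) →
      ∃ 𝓜, H55.Sd.Frames (T K q) 𝓜 ∧ H55.Sd.RealOnT (Sup (X φ q) (Pos cs isCartan)) (T K q) 𝓜)
    {S : Type u} [Group S] [Finite S] [IsSimpleGroup S] (h : Cfsg.Lie.Iso2E6 S) : H643.Sd.Row S := by
  obtain ⟨K, iF, iT, q, hq, hK, ⟨e⟩⟩ := h
  obtain ⟨p, hpK⟩ := CharP.exists K
  have hp : Fact p.Prime := ⟨CharP.char_is_prime K p⟩
  by_cases hp2 : p = 2
  · subst hp2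
    have h1 : Cfsg.IsTwistedE6D4Char 2 S := ⟨K, iF, iT, hpK, q, hq, Or.inl ⟨hK, ⟨e⟩⟩⟩
    exact row_of_char_two (Or.inr (Or.inr (Or.inr (Or.inr (Or.inr (Or.inr (Or.inr (Or.inl h1))))))))
  · obtain ⟨φ, hφ, hqq⟩ := Cfsg.Agent.ChevalleyStructure.TwE6Basic.exists_frob hq hK
    obtain ⟨𝓜, h1, h2⟩ := hreal K p q hp2 hq hK φ hφ hqq
    exact row_congr (row_of_rgd (Nodes.RGDTwE6.rgd cs hφ hqq p) (torCond hφ hqq hq hK p hp2) h1 h2) e.symm

end Cfsg.Agent.H641.Sd.TwE6
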